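import Mathlib
import Groth.Prelude
import Groth.Agent.Lib.Helper8.Synt.FibGens
import Groth.Agent.Lib.Helper8.KosLoc.Fib
import Groth.Agent.Lib.Helper8.KosLoc.ClaimA
import Groth.Agent.Lib.Helper1.ComplQuot
import Groth.Agent.Lib.Helper1.CIQuot
import Groth.Agent.S9251
import Groth.Agent.S15821
import Groth.Agent.S2838
import Groth.Agent.S2841
import Groth.Agent.S0548
import Groth.Agent.S0543
import Groth.Agent.Lib.Helper5.CA.Cohen9
import Groth.Agent.Lib.Helper5.FSm.PSReg

set_option autoImplicit false
set_option linter.style.haveILetI false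

universe u

open IsLocalRing

namespace Groth.Agent.H8.CIPres

section Transport

theorem isRegularIdeal_map_ringEquiv {A B : Type u} [CommRing A] [CommRing B] (e : A ≃+* B)
    (I : Ideal A) (h : CInt.IsRegularIdeal I) : CInt.IsRegularIdeal (I.map (e : A →+* B)) := by
  obtain ⟨rs, hrs, hI⟩ := h
  refine ⟨rs.map e, Groth.Agent.H8.Synt.isRegular_map_ringEquiv e rs hrs, ?_⟩
  rw [← hI, Ideal.map_ofList]
  rfl

/-- exchange: for a surjection `π : P → E` of regular local rings, the kernel of `f ∘ π` is
generated by a regular sequence iff the kernel of `f` is. -/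
theorem isRegularIdeal_ker_comp_iff {A E P : Type u} [CommRing A] [Nontrivial A]
    [CommRing E] [IsRegularLocalRing E] [CommRing P] [IsRegularLocalRing P]
    (π : P →+* E) (hπ : Function.Surjective π) (f : E →+* A) :
    CInt.IsRegularIdeal (RingHom.ker (f.comp π)) ↔ CInt.IsRegularIdeal (RingHom.ker f) := by
  have hJK : RingHom.ker π ≤ RingHom.ker (f.comp π) := fun x hx => by
    rw [RingHom.mem_ker, RingHom.comp_apply, (RingHom.mem_ker.mp hx), map_zero]
  have hKtop : RingHom.ker (f.comp π) ≠ ⊤ := by
    intro h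
    have h1 : (1 : P) ∈ RingHom.ker (f.comp π) := h ▸ Submodule.mem_top
    rw [RingHom.mem_ker, map_one] at h1
    exact one_ne_zero h1
  have hKm : RingHom.ker (f.comp π) ≤ maximalIdeal P := IsLocalRing.le_maximalIdeal hKtop
  let e : P ⧸ RingHom.ker π ≃+* E := RingHom.quotientKerEquivOfSurjective hπ
  have hAJ : IsRegularLocalRing (P ⧸ RingHom.ker π) := IsRegularLocalRing.of_ringEquiv e.symm
  rw [Groth.Agent.S2838.result P (RingHom.ker π) (RingHom.ker (f.comp π)) hJK hKm hAJ]
  have hmap : ((RingHom.ker (f.comp π)).map (Ideal.Quotient.mk (RingHom.ker π))).map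
      (e : P ⧸ RingHom.ker π →+* E) = RingHom.ker f := by
    rw [Ideal.map_map]
    have hcomp : (e : P ⧸ RingHom.ker π →+* E).comp (Ideal.Quotient.mk (RingHom.ker π)) = π := by
      ext x
      rfl
    rw [hcomp, ← RingHom.comap_ker, Ideal.map_comap_of_surjective π hπ]
  constructor
  · intro h
    rw [← hmap]
    exact isRegularIdeal_map_ringEquiv e _ h
  · intro h
    have h2 := isRegularIdeal_map_ringEquiv e.symm _ h
    rw [← hmap, Ideal.map_map] at h2
    have h3 : ((e.symm : E →+* P ⧸ RingHom.ker π)).comp (e : P ⧸ RingHom.ker π →+* E) =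
        RingHom.id _ := by
      ext x
      simp
    rwa [h3, Ideal.map_id] at h2

/-- two compatible surjections from a regular local ring. -/
theorem core {A E F P : Type u} [CommRing A] [Nontrivial A]
    [CommRing E] [IsRegularLocalRing E] [CommRing F] [IsRegularLocalRing F]
    [CommRing P] [IsRegularLocalRing P]
    (f : E →+* A) (g : F →+* A)
    (πE : P →+* E) (πF : P →+* F) (hπE : Function.Surjective πE) (hπF : Function.Surjective πF)
    (hcomm : f.comp πE = g.comp πF)
    (hgK : CInt.IsRegularIdeal (RingHom.ker g)) : CInt.IsRegularIdeal (RingHom.ker f) := by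
  rw [← isRegularIdeal_ker_comp_iff πE hπE f, hcomm, isRegularIdeal_ker_comp_iff πF hπF g]
  exact hgK

/-- independence of the presentation for complete regular local rings. -/
theorem isRegularIdeal_ker_of_complete {A E F : Type u} [CommRing A] [IsLocalRing A]
    [CommRing E] [IsRegularLocalRing E] [IsAdicComplete (maximalIdeal E) E]
    [CommRing F] [IsRegularLocalRing F] [IsAdicComplete (maximalIdeal F) F]
    (f : E →+* A) (g : F →+* A) (hf : Function.Surjective f) (hg : Function.Surjective g)
    (hgK : CInt.IsRegularIdeal (RingHom.ker g)) : CInt.IsRegularIdeal (RingHom.ker f) := by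
  haveI : IsLocalHom f := hf.isLocalHom
  haveI : IsLocalHom g := hg.isLocalHom
  obtain ⟨hTloc, hTnoeth, hTcomp⟩ := Groth.Agent.S2841.result f g hf hg
  obtain ⟨Λ, _, n, φ, hΛ, hφ⟩ := Groth.Agent.H5.Cohen9.cohen_structure (↥(f.pullback g))
    (IsNoetherian.noetherian _)
  have key : ∀ [IsRegularLocalRing Λ], CInt.IsRegularIdeal (RingHom.ker f) := by
    intro _
    haveI : IsRegularLocalRing (MvPowerSeries (Fin n) Λ) :=
      (Groth.Agent.H5.FSm.isRegularLocalRing_mvPowerSeries Λ n).1
    refine core f g ((f.pullbackFst g).comp φ) ((f.pullbackSnd g).comp φ)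
      ((RingHom.surjective_pullbackFst_of_surjective f g hg).comp hφ)
      ((RingHom.surjective_pullbackSnd_of_surjective f g hf).comp hφ) ?_ hgK
    ext p
    exact RingHom.congr_fun (RingHom.pullback_comm_sq f g) (φ p)
  rcases hΛ with hΛ | hΛ
  · letI := hΛ.toField
    exact key
  · obtain ⟨hdom, hdvr, -, -⟩ := hΛ
    exact key

end Transport

section Completion

/-- a surjection onto a complete local ring extends to the completion, with the expected
kernel. -/
theorem exists_completion_surjective {S A : Type u} [CommRing S] [CommRing A]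
    [IsNoetherianRing S] [IsLocalRing S] [IsLocalRing A] [IsAdicComplete (maximalIdeal A) A]
    (h : S →+* A) (hh : Function.Surjective h) :
    ∃ h' : AdicCompletion (maximalIdeal S) S →+* A, Function.Surjective h' ∧
      RingHom.ker h' =
        (RingHom.ker h).map (algebraMap S (AdicCompletion (maximalIdeal S) S)) := by
  have h𝔫 : maximalIdeal A = (maximalIdeal S).map h :=
    (IsLocalRing.map_maximalIdeal_of_surjective h hh).symm
  let e : AdicCompletion (maximalIdeal A) A ≃+* A :=
    (AdicCompletion.ofAlgEquiv (maximalIdeal A)).symm.toRingEquiv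
  refine ⟨(e : AdicCompletion (maximalIdeal A) A →+* A).comp
    (Groth.Agent.H1.ComplQuot.compMap h (maximalIdeal S) (maximalIdeal A) h𝔫),
    e.surjective.comp
      (Groth.Agent.H1.ComplQuot.compMap_surjective h (maximalIdeal S) (maximalIdeal A) hh h𝔫), ?_⟩
  rw [← Groth.Agent.H1.ComplQuot.ker_compMap h (maximalIdeal S) (maximalIdeal A) hh h𝔫]
  ext x
  rw [RingHom.mem_ker, RingHom.mem_ker, RingHom.comp_apply]
  exact (map_eq_zero_iff _ e.injective)

/-- descent of regular generation along a faithfully flat extension of a Noetherian local ring. -/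
theorem isRegularIdeal_of_map_faithfullyFlat {R S : Type u} [CommRing R] [IsNoetherianRing R]
    [IsLocalRing R] [CommRing S] [Algebra R S] [Module.FaithfullyFlat R S] (I : Ideal R)
    (hI : I ≠ ⊤) (h : CInt.IsRegularIdeal (I.map (algebraMap R S))) : CInt.IsRegularIdeal I := by
  obtain ⟨s, hs, hsI⟩ := h
  have h1 : LCI.IsKoszulRegularIdeal (I.map (algebraMap R S)) := by
    rw [← hsI]
    exact Groth.Agent.H8.KosLoc.isKoszulRegularIdeal_ofList s
      (Groth.Agent.S15821.result S s hs.toIsWeaklyRegular).1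
  have h2 := Groth.Agent.S9251.result R S I h1
  obtain ⟨g, hg, l, hl, hIl⟩ := h2 ⟨maximalIdeal R, inferInstance⟩
    (IsLocalRing.le_maximalIdeal hI)
  have hgu : IsUnit g := by
    by_contra hcon
    exact hg ((IsLocalRing.mem_maximalIdeal g).mpr hcon)
  let e : R ≃ₐ[R] Localization.Away g :=
    IsLocalization.atUnits R (Submonoid.powers g) (S := Localization.Away g) (by
      rintro _ ⟨n, rfl⟩
      exact hgu.pow n)
  have hL : LCI.IsKoszulRegularSeq R (l.map e.symm.toRingEquiv) :=
    Groth.Agent.H8.SyntLocal.isKoszulRegularSeq_map_ringEquiv e.symm.toRingEquiv l hl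
  have hIL : I = Ideal.ofList (l.map e.symm.toRingEquiv) := by
    have h3 := congrArg (Ideal.map (e.symm.toRingEquiv : Localization.Away g →+* R)) hIl
    rw [Ideal.map_map] at h3
    have h4 : (e.symm.toRingEquiv : Localization.Away g →+* R).comp
        (algebraMap R (Localization.Away g)) = RingHom.id R := by
      ext x
      show e.symm (algebraMap R (Localization.Away g) x) = x
      rw [← e.commutes x]
      simp
    rw [h4, Ideal.map_id] at h3
    rw [h3]
    show Ideal.map _ (Ideal.ofList l) = _
    rw [Ideal.map_ofList]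
    rfl
  obtain ⟨rs, hrs, hrsI⟩ := Groth.Agent.H8.KosLoc.exists_regular_of_kr_noeth I hI _ hL hIL
  exact ⟨rs, hrs, hrsI⟩

end Completion

section Main

theorem main2169 {A R : Type u} [CommRing A] [CommRing R]
    [IsNoetherianRing A] [IsLocalRing A] [IsAdicComplete (maximalIdeal A) A]
    [IsRegularLocalRing R] (f : R →+* A) (hf : Function.Surjective f)
    (hA : Pi1.IsCompleteIntersection A) :
    ∃ rs : List R, Ideal.ofList rs = RingHom.ker f ∧ RingTheory.Sequence.IsRegular R rs := by
  obtain ⟨B₀, _, hB₀, rs, hrsm, hrs, ⟨ε⟩⟩ := hA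
  let eA : AdicCompletion (maximalIdeal A) A ≃+* A :=
    (AdicCompletion.ofAlgEquiv (maximalIdeal A)).symm.toRingEquiv
  let ε' : (B₀ ⧸ Ideal.span {r | r ∈ rs}) ≃+* A := ε.symm.trans eA
  obtain ⟨h, hh, hker⟩ : ∃ h : B₀ →+* A, Function.Surjective h ∧
      RingHom.ker h = Ideal.ofList rs := by
    refine ⟨(ε' : (B₀ ⧸ Ideal.span {r | r ∈ rs}) →+* A).comp
      (Ideal.Quotient.mk (Ideal.span {r | r ∈ rs})),
      ε'.surjective.comp Ideal.Quotient.mk_surjective, ?_⟩
    ext x
    rw [RingHom.mem_ker, RingHom.comp_apply]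
    show ε' (Ideal.Quotient.mk _ x) = 0 ↔ x ∈ Ideal.span {r | r ∈ rs}
    rw [map_eq_zero_iff _ ε'.injective, Ideal.Quotient.eq_zero_iff_mem]
  obtain ⟨h', hh's, hh'k⟩ := exists_completion_surjective h hh
  obtain ⟨f', hf's, hf'k⟩ := exists_completion_surjective f hf
  haveI : IsRegularLocalRing (AdicCompletion (maximalIdeal B₀) B₀) :=
    (Groth.Agent.S0548.result B₀).mp hB₀
  haveI : IsRegularLocalRing (AdicCompletion (maximalIdeal R) R) :=
    (Groth.Agent.S0548.result R).mp inferInstance
  have hreg : CInt.IsRegularIdeal (RingHom.ker h') := by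
    rw [hh'k, hker, Ideal.map_ofList]
    refine ⟨rs.map (algebraMap B₀ (AdicCompletion (maximalIdeal B₀) B₀)), ?_, rfl⟩
    refine (IsLocalRing.isRegular_iff_isWeaklyRegular_of_subset_maximalIdeal ?_).mpr
      hrs.toIsWeaklyRegular.of_flat
    intro r hr
    obtain ⟨a, ha, rfl⟩ := List.mem_map.mp hr
    rw [AdicCompletion.maximalIdeal_eq_map]
    exact Ideal.mem_map_of_mem _ (hrsm a ha)
  have h1 := isRegularIdeal_ker_of_complete f' h' hf's hh's hreg
  rw [hf'k] at h1
  have hI : RingHom.ker f ≠ ⊤ := by
    intro h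
    have h2 : (1 : R) ∈ RingHom.ker f := h ▸ Submodule.mem_top
    rw [RingHom.mem_ker, map_one] at h2
    exact one_ne_zero h2
  haveI : Module.FaithfullyFlat R (AdicCompletion (maximalIdeal R) R) :=
    Module.FaithfullyFlat.of_flat_of_isLocalHom
  obtain ⟨rs', hrs', hI'⟩ := isRegularIdeal_of_map_faithfullyFlat (RingHom.ker f) hI h1
  exact ⟨rs', hI', hrs'⟩

end Main

end Groth.Agent.H8.CIPres
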