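import Mathlib
import Groth.Prelude
import Groth.Agent.Lib.Helper8.CIPres.A

set_option autoImplicit false
set_option linter.style.haveILetI false

universe u

open IsLocalRing

namespace Groth.Agent.H8.CIPres

theorem main2166 {R : Type u} [CommRing R] [IsRegularLocalRing R]
    (I : Ideal R) (hI : I ≠ ⊤) [IsLocalRing (R ⧸ I)] :
    Pi1.IsCompleteIntersection (R ⧸ I) ↔
      ∃ rs : List R, Ideal.ofList rs = I ∧ RingTheory.Sequence.IsRegular R rs := by
  constructor
  · rintro ⟨B, _, hB, rs', hrsm, hrs', ⟨ε⟩⟩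
    haveI : IsNoetherianRing (AdicCompletion (maximalIdeal (R ⧸ I)) (R ⧸ I)) :=
      Groth.Agent.S0543.result _ _
    have hA' : Pi1.IsCompleteIntersection (AdicCompletion (maximalIdeal (R ⧸ I)) (R ⧸ I)) :=
      ⟨B, inferInstance, hB, rs', hrsm, hrs',
        ⟨(AdicCompletion.ofAlgEquiv (maximalIdeal
          (AdicCompletion (maximalIdeal (R ⧸ I)) (R ⧸ I)))).symm.toRingEquiv.trans ε⟩⟩
    have hmk : Function.Surjective (Ideal.Quotient.mk I) := Ideal.Quotient.mk_surjective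
    have h𝔫 : maximalIdeal (R ⧸ I) = (maximalIdeal R).map (Ideal.Quotient.mk I) :=
      (IsLocalRing.map_maximalIdeal_of_surjective _ hmk).symm
    haveI : IsRegularLocalRing (AdicCompletion (maximalIdeal R) R) :=
      (Groth.Agent.S0548.result R).mp inferInstance
    obtain ⟨rs, hrsI, hrs⟩ := main2169
      (Groth.Agent.H1.ComplQuot.compMap (Ideal.Quotient.mk I) (maximalIdeal R)
        (maximalIdeal (R ⧸ I)) h𝔫)
      (Groth.Agent.H1.ComplQuot.compMap_surjective _ _ _ hmk h𝔫) hA'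
    rw [Groth.Agent.H1.ComplQuot.ker_compMap _ _ _ hmk h𝔫, Ideal.mk_ker] at hrsI
    haveI : Module.FaithfullyFlat R (AdicCompletion (maximalIdeal R) R) :=
      Module.FaithfullyFlat.of_flat_of_isLocalHom
    obtain ⟨rs₀, hrs₀, hI₀⟩ := isRegularIdeal_of_map_faithfullyFlat I hI ⟨rs, hrs, hrsI⟩
    exact ⟨rs₀, hI₀, hrs₀⟩
  · rintro ⟨rs, rfl, hrs⟩
    refine Groth.Agent.H1.CIQuot.ci_of_regular_quotient R rs ?_ hrs.toIsWeaklyRegular
    intro r hr
    exact IsLocalRing.le_maximalIdeal hI (Ideal.subset_span hr)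

end Groth.Agent.H8.CIPres
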